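import Cfsg.Agent.H902.DG.CohU3

/-!
# `Coh` for `PSU₃(q)`, `q ≥ 3`: assembly (helper902, S4180, task K4)
-/

set_option autoImplicit false

namespace Cfsg.Agent.H902.DG.CohU3

open Cfsg Cfsg.Agent.LieClassical.HermBasic Cfsg.Agent.LieClassical.HermSiegel
  Cfsg.Agent.LieClassical.HermGen Cfsg.Agent.LieClassical.SUBasic
  Cfsg.Agent.ClassicalGeometry.PSUAutCount Cfsg.Agent.ClassicalGeometry.UnitAutBasic Matrix
open Cfsg.Agent.H903.SylSemi Cfsg.Agent.H177.MeetPSU Cfsg.Agent.H137.Herm Cfsg.Agent.H450.GenU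
open Cfsg.Agent.H891.DG

universe u

variable {F : Type} [Field F] [Fintype F] {q : ℕ}

theorem center_bot {T : Type*} [Group T] [IsSimpleGroup T] {a b : T} (h : a * b ≠ b * a) :
    Subgroup.center T = ⊥ := by
  rcases (inferInstance : (Subgroup.center T).Normal).eq_bot_or_eq_top with h1 | h1
  · exact h1
  · exfalso
    apply h
    have : a ∈ Subgroup.center T := by rw [h1]; trivial
    exact (Subgroup.mem_center_iff.1 this b).symm

omit [Fintype F] in
theorem act_inv_of {g : SU 3 F q} {v v' : Fin 3 → F} (h : act g v = v') : act g⁻¹ v' = v := by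
  rw [← h, act_inv_act]

namespace Dat

variable {hF : Fintype.card F = q ^ 2} {e f d : Fin 3 → F} {z : F} {s w : SU 3 F q}

/-- Reading off the coefficients. -/
theorem coef (D : Dat hF e f d z s w) {a b c a' b' c' : F}
    (h : a • e + b • f + c • d = a' • e + b' • f + c' • d) : a = a' ∧ b = b' ∧ c = c' := by
  have h1 : ∀ x : Fin 3 → F, hermForm 3 F q (a • e + b • f + c • d) x =
      hermForm 3 F q (a' • e + b' • f + c' • d) x := fun x => by rw [h]
  have h2 := h1 f
  have h3 := h1 e
  have h4 := h1 d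
  simp only [herm_add_left, herm_smul_left, D.B.ee, D.B.ef, D.B.ed, D.B.fe, D.B.ff, D.B.fd, D.B.de, D.B.df, D.B.dd,
    mul_zero, mul_one, add_zero, zero_add] at h2 h3 h4
  exact ⟨h2, h3, h4⟩

/-- odd characteristic: the involution inverting `t`. -/
theorem tct (D : Dat hF e f d z s w) {μ : F} (k : IsSiegel q e d μ) (hμ : 2 * μ + 1 = 0) {c : SU 3 F q}
    (ce : act c e = -e) (cf : act c f = -f) (cd : act c d = d) :
    siegel hF e d μ k * c * siegel hF e d μ k = c := by
  refine D.ext ?_ ?_ ?_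
  · simp only [act_mul, act_neg, ce, D.te k]
  · simp only [act_mul, act_add, act_neg, act_smul, ce, cf, cd, D.te k, D.td k, D.tf k]
    funext i
    simp only [Pi.add_apply, Pi.neg_apply, Pi.smul_apply, Pi.sub_apply, smul_eq_mul]
    linear_combination (-(e i)) * hμ
  · simp only [act_mul, act_sub, act_neg, ce, cd, D.te k, D.td k]
    abel

theorem t_sq_ne (D : Dat hF e f d z s w) (h2 : (2 : F) ≠ 0) {μ : F} (k : IsSiegel q e d μ) :
    pr 3 F q (siegel hF e d μ k * siegel hF e d μ k) ≠ 1 := by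
  intro h
  rw [← map_one (pr 3 F q)] at h
  obtain ⟨c, -, hc⟩ := exists_scalar_of_pr_eq hF le_rfl h
  have h1 := hc d
  simp only [act_mul, act_one, D.td k, D.te k, act_sub, smul_sub] at h1
  have h3 : (0 : F) • e + (0 : F) • f + (1 : F) • d = (-(2 * c)) • e + (0 : F) • f + c • d := by
    rw [zero_smul, zero_smul, one_smul]
    conv_lhs => rw [h1]
    funext i
    simp only [Pi.add_apply, Pi.sub_apply, Pi.smul_apply, smul_eq_mul, Pi.zero_apply]
    ring
  obtain ⟨h4, -, h5⟩ := D.coef h3
  rw [← h5, mul_one] at h4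
  exact h2 (by linear_combination h4)

/-- characteristic 2: the element `r` commutes with `t²` -/
theorem r_comm (D : Dat hF e f d z s w) (h2 : (2 : F) = 0) {μ : F} (k : IsSiegel q e d μ) {r : SU 3 F q} {α β : F}
    (re : act r e = α • e) (rf : act r f = α • f) (rd : act r d = β • d) :
    r * (siegel hF e d μ k * siegel hF e d μ k) = siegel hF e d μ k * siegel hF e d μ k * r := by
  refine D.ext ?_ ?_ ?_
  · simp only [act_mul, act_smul, re, D.te k]
  · simp only [act_mul, act_add, act_smul, act_sub, re, rf, rd, D.te k, D.td k, D.tf k]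
    funext i
    simp only [Pi.add_apply, Pi.smul_apply, Pi.sub_apply, smul_eq_mul]
    linear_combination (β * d i - α * d i) * h2
  · simp only [act_mul, act_smul, act_sub, re, rd, D.te k, D.td k]
    funext i
    simp only [Pi.smul_apply, Pi.sub_apply, smul_eq_mul]
    linear_combination ((β - α) * e i) * h2

theorem n_sq_ne (D : Dat hF e f d z s w) (h2 : (2 : F) = 0) {μ : F} (k : IsSiegel q e d μ) {r : SU 3 F q} {α β : F}
    (hα : α ≠ 0) (hβ : β ≠ 0) (hαβ : α ≠ β) (re : act r e = α • e) (rf : act r f = α • f) (rd : act r d = β • d) :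
    pr 3 F q (((siegel hF e d μ k)⁻¹ * (r * siegel hF e d μ k * r⁻¹)) ^ 2) ≠ 1 := by
  intro h
  have tie : act (siegel hF e d μ k)⁻¹ e = e := act_inv_of (D.te k)
  have tid : act (siegel hF e d μ k)⁻¹ d = d + e := by
    have h3 : act (siegel hF e d μ k) (d + e) = d := by
      rw [act_add, D.te k, D.td k, sub_add_cancel]
    exact act_inv_of h3
  have tif : act (siegel hF e d μ k)⁻¹ f = f - d - e - μ • e := by
    have h3 : act (siegel hF e d μ k) (f - d - e - μ • e) = f := by
      simp only [act_sub, act_smul, D.te k, D.td k, D.tf k]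
      abel
    exact act_inv_of h3
  have rie : act r⁻¹ e = α⁻¹ • e := by
    have h3 : act r (α⁻¹ • e) = e := by rw [act_smul, re, smul_smul, inv_mul_cancel₀ hα, one_smul]
    exact act_inv_of h3
  have rif : act r⁻¹ f = α⁻¹ • f := by
    have h3 : act r (α⁻¹ • f) = f := by rw [act_smul, rf, smul_smul, inv_mul_cancel₀ hα, one_smul]
    exact act_inv_of h3
  have rid : act r⁻¹ d = β⁻¹ • d := by
    have h3 : act r (β⁻¹ • d) = d := by rw [act_smul, rd, smul_smul, inv_mul_cancel₀ hβ, one_smul]
    exact act_inv_of h3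
  set n := (siegel hF e d μ k)⁻¹ * (r * siegel hF e d μ k * r⁻¹) with hn
  have ne : act n e = e := by
    simp only [hn, act_mul, act_smul, rie, D.te k, re, tie, smul_smul, inv_mul_cancel₀ hα, one_smul]
  have nd : act n d = d + (1 - α * β⁻¹) • e := by
    simp only [hn, act_mul, act_smul, act_sub, rid, D.td k, re, rd, tie, tid]
    funext i
    simp only [Pi.add_apply, Pi.smul_apply, Pi.sub_apply, smul_eq_mul]
    field_simp
    ring
  have nf : act n f = f + (α⁻¹ * β - 1) • d + (α⁻¹ * β - 1) • e := by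
    simp only [hn, act_mul, act_smul, act_add, rif, D.tf k, re, rf, rd, tie, tid, tif]
    funext i
    simp only [Pi.add_apply, Pi.smul_apply, Pi.sub_apply, smul_eq_mul]
    field_simp
    ring
  rw [← map_one (pr 3 F q)] at h
  obtain ⟨c, -, hc⟩ := exists_scalar_of_pr_eq hF le_rfl h
  have h3 := hc f
  have h4 : act (n ^ 2) f = (2 * (α⁻¹ * β - 1) + (α⁻¹ * β - 1) * (1 - α * β⁻¹)) • e + (1 : F) • f +
      (2 * (α⁻¹ * β - 1)) • d := by
    rw [pow_two]
    simp only [act_mul, act_smul, act_add, nf, nd, ne]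
    funext i
    simp only [Pi.add_apply, Pi.smul_apply, smul_eq_mul]
    ring
  rw [h4, act_one, h2, zero_mul, zero_add] at h3
  have h5 : (0 : F) • e + (1 : F) • f + (0 : F) • d =
      (c * ((α⁻¹ * β - 1) * (1 - α * β⁻¹))) • e + (c * 1) • f + (c * 0) • d := by
    rw [zero_smul, zero_add, one_smul, zero_smul, add_zero]
    conv_lhs => rw [h3]
    simp only [smul_add, smul_smul]
  obtain ⟨h6, h7, -⟩ := D.coef h5
  have hc0 : c ≠ 0 := by
    rintro rfl
    rw [zero_mul] at h7
    exact one_ne_zero h7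
  rcases mul_eq_zero.1 h6.symm with h8 | h8
  · exact hc0 h8
  rcases mul_eq_zero.1 h8 with h9 | h9
  · apply hαβ
    have : α⁻¹ * β = 1 := sub_eq_zero.1 h9
    have h10 := congrArg (fun t => α * t) this
    simp only [mul_inv_cancel_left₀ hα, mul_one] at h10
    exact h10.symm
  · apply hαβ
    have : α * β⁻¹ = 1 := (sub_eq_zero.1 h9).symm
    exact (mul_inv_eq_one₀ hβ).1 this

end Dat

/-- **K4**: `Rows.psu3` for `Coh`. -/
theorem coh_psu3 (T : Type u) [Group T] [Finite T] [IsSimpleGroup T] (F : Type) [Field F] [Fintype F] (q : ℕ)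
    (hq : 3 ≤ q) (hF : Fintype.card F = q ^ 2) (E : Nonempty (T ≃* Cfsg.PSU 3 F q)) : Coh T := by
  obtain ⟨E⟩ := E
  obtain ⟨e, f, d, z, s, w, D⟩ := exists_dat hF
  obtain ⟨r, κ, hr, hchar, hqr, hκ⟩ := exists_prime_pow hF
  have hqq : 3 * q ≤ q ^ 2 := by rw [pow_two]; exact Nat.mul_le_mul_right q hq
  let φ : SU 3 F q →* T := E.symm.toMonoidHom.comp (pr 3 F q)
  have hφ : ∀ x, φ x = E.symm (pr 3 F q x) := fun _ => rfl
  have hφs : Function.Surjective φ := E.symm.surjective.comp pr_surjective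
  have hφ1 : ∀ x, pr 3 F q x ≠ 1 → φ x ≠ 1 := fun x hx h1 => hx (by
    rw [hφ, ← map_one E.symm] at h1
    exact E.symm.injective h1)
  have : Nontrivial (PSU 3 F q) := E.symm.toEquiv.nontrivial
  have : IsSimpleGroup (PSU 3 F q) := IsSimpleGroup.isSimpleGroup_of_surjective E.toMonoidHom E.surjective
  have hcomm := D.not_comm hq
  have hcen : Subgroup.center (PSU 3 F q) = ⊥ :=
    center_bot (a := pr 3 F q s) (b := pr 3 F q w) (by rw [← map_mul, ← map_mul]; exact hcomm)
  have hcommT : φ s * φ w ≠ φ w * φ s := by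
    rw [← map_mul, ← map_mul]
    intro h
    exact hcomm (E.symm.injective h)
  intro p hp
  by_cases hpr : p = r
  · subst hpr
    have hpq : ¬ p ∣ q ^ 2 - 1 := by
      intro h
      have h1 : p ∣ q ^ 2 := by
        rw [hqr]
        exact dvd_pow (dvd_pow_self p hκ.ne') two_ne_zero
      have h2 := (Nat.dvd_sub h1 h)
      rw [Nat.sub_sub_self (by omega)] at h2
      exact hp.one_lt.ne' (Nat.dvd_one.1 h2)
    have hs : φ s ^ (q ^ 2 - 1) = 1 := by rw [← map_pow, D.s_pow, map_one]
    have hgen : ∀ {μ : F} (k : IsSiegel q e d μ),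
        Subgroup.closure ({φ s, φ (siegel hF e d μ k) * φ w} : Set T) = ⊤ := by
      intro μ k
      have h := congrArg (Subgroup.map E.symm.toMonoidHom) (D.gen hq k hcen)
      rw [MonoidHom.map_closure, Set.image_pair, Subgroup.map_top_of_surjective _ E.symm.surjective, map_mul] at h
      exact h
    have hw : (φ w)⁻¹ * φ s * φ w ∈ Subgroup.zpowers (φ s) := by
      rw [← map_inv, ← map_mul, ← map_mul, D.w_norm, map_inv, map_pow]
      exact inv_mem (pow_mem (Subgroup.mem_zpowers _) _)
    rcases hp.eq_two_or_odd' with rfl | hodd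
    · -- characteristic 2
      have h2 : (2 : F) = 0 := by
        have := CharP.cast_eq_zero F 2
        exact_mod_cast this
      obtain ⟨μ, hμ⟩ := exists_trace_eq hF (c := (-1 : F)) (by rw [neg_pow_q hF, one_pow])
      have k : IsSiegel q e d μ := ⟨D.B.ee, D.B.de, by rw [D.B.dd, hμ]; ring⟩
      have hz := D.z0
      have hα : z ^ (q - 1) ≠ 0 := pow_ne_zero _ hz
      have hβ' : z ^ q * z⁻¹ = z ^ (q - 1) := by
        have h5 : z ^ (q - 1) * z = z ^ q := by rw [← pow_succ, Nat.sub_add_cancel (by omega)]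
        rw [← h5, mul_inv_cancel_right₀ hz]
      have hrf : ((z ^ q)⁻¹) ^ (q - 1) = z ^ (q - 1) := by
        have h5 : z ^ (q - 1) * (z ^ q) ^ (q - 1) = 1 := by
          rw [← pow_mul, ← pow_add]
          have : q - 1 + q * (q - 1) = q ^ 2 - 1 := by
            obtain ⟨m, rfl⟩ : ∃ m, q = m + 1 := ⟨q - 1, by omega⟩
            rw [Nat.add_sub_cancel]
            have : (m + 1) ^ 2 = m + (m + 1) * m + 1 := by ring
            omega
          rw [this, D.zpow_card]
        rw [inv_pow]
        exact (eq_inv_of_mul_eq_one_left h5).symm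
      have re := D.pow_e (q - 1)
      have rf := D.pow_f (q - 1)
      have rd := D.pow_d (q - 1)
      rw [hrf] at rf
      have hβ : (z ^ q * z⁻¹) ^ (q - 1) ≠ 0 := by rw [hβ']; exact pow_ne_zero _ hα
      have hαβ : z ^ (q - 1) ≠ (z ^ q * z⁻¹) ^ (q - 1) := by
        rw [hβ', ← pow_mul]
        intro h
        obtain ⟨m, rfl⟩ : ∃ m, q = m + 3 := ⟨q - 3, by omega⟩
        have h6 : (m + 3 - 1) * (m + 3 - 1) = (m + 3 - 1) + (m + 2) * (m + 1) := by
          have : m + 3 - 1 = m + 2 := by omega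
          rw [this]; ring
        rw [h6, pow_add] at h
        have h7 : z ^ ((m + 2) * (m + 1)) = 1 := mul_left_cancel₀ hα (by rw [mul_one]; exact h.symm)
        refine D.z2 _ (by positivity) ?_ h7
        have : (m + 3) ^ 2 = (m + 2) * (m + 1) + 3 * m + 7 := by ring
        omega
      have hrt := D.r_comm h2 k re rf rd
      have hn := hφ1 _ (D.n_sq_ne h2 k hα hβ hαβ re rf rd)
      refine cohAt_two_of_sq (r := φ (s ^ (q - 1))) hs hpq (hgen k) hw ?_ ?_ ?_
      · rw [map_pow]; exact pow_mem (Subgroup.mem_zpowers _) _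
      · rw [← map_mul, ← map_mul, hrt, map_mul]
      · rwa [map_pow, map_mul, map_inv, map_mul, map_mul, map_inv] at hn
    · -- odd characteristic
      have h2 : (2 : F) ≠ 0 := by
        intro h
        have h3 : ((2 : ℕ) : F) = 0 := by exact_mod_cast h
        rw [CharP.cast_eq_zero_iff F p] at h3
        have h4 := (Nat.prime_dvd_prime_iff_eq hp Nat.prime_two).1 h3
        rw [h4] at hodd
        exact absurd hodd (by decide)
      have hqodd : Odd q := by rw [hqr]; exact hodd.pow
      have hμ2 : 2 * (-(2 : F)⁻¹) + 1 = 0 := by field_simp; ring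
      have k : IsSiegel q e d (-(2 : F)⁻¹) := by
        refine ⟨D.B.ee, D.B.de, ?_⟩
        have h3 : (2 : F) ^ q = 2 := by
          have h4 : (2 : F) = 1 + 1 := by norm_num
          rw [h4, add_pow_q hF, one_pow]
        rw [D.B.dd, neg_pow_q hF, inv_pow, h3]
        linear_combination hμ2
      obtain ⟨j, hj⟩ : ∃ j, q ^ 2 - 1 = 2 * j := by
        obtain ⟨j, hj⟩ := Nat.Odd.sub_odd (hqodd.pow (n := 2)) odd_one
        exact ⟨j, by omega⟩
      have hzj : z ^ j = -1 := by
        have h3 : z ^ j * z ^ j = 1 := by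
          rw [← pow_add, ← two_mul, ← hj, D.zpow_card]
        rcases mul_self_eq_one_iff.1 h3 with h4 | h4
        · exact absurd h4 (D.z2 j (by omega) (by omega))
        · exact h4
      have ce : act (s ^ j) e = -e := by rw [D.pow_e, hzj, neg_one_smul]
      have hzqj : (z ^ q) ^ j = -1 := by
        rw [← pow_mul, mul_comm q, pow_mul, hzj, neg_pow_q hF, one_pow]
      have cf : act (s ^ j) f = -f := by
        rw [D.pow_f, inv_pow, hzqj, inv_neg, inv_one, neg_one_smul]
      have cd : act (s ^ j) d = d := by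
        rw [D.pow_d, mul_pow, hzqj, inv_pow, hzj, inv_neg, inv_one, neg_mul_neg, one_mul, one_smul]
      have htct := D.tct k hμ2 ce cf cd
      have htt := hφ1 _ (D.t_sq_ne h2 k)
      set t := siegel hF e d (-(2 : F)⁻¹) k with ht
      have h5 : φ t * φ (s ^ j) * φ t = φ (s ^ j) := by
        rw [← map_mul, ← map_mul, htct]
      refine cohAt_of_inv hp (c := φ (s ^ j)) hs hpq (hgen k) hw ?_ ?_ ⟨φ t, ?_⟩
      · rw [map_pow]; exact pow_mem (Subgroup.mem_zpowers _) _
      · rw [← ht]
        calc φ (s ^ j) * φ t * (φ (s ^ j))⁻¹ = (φ t)⁻¹ * (φ t * φ (s ^ j) * φ t) * (φ (s ^ j))⁻¹ := by group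
          _ = (φ t)⁻¹ := by rw [h5]; group
      · rw [← ht]
        intro h6
        rw [h5] at h6
        apply htt
        rw [map_mul]
        calc φ t * φ t = φ t * (φ t * φ (s ^ j)) * (φ (s ^ j))⁻¹ := by group
          _ = 1 := by rw [h6]; group
  · -- cross characteristic
    have hA : IsPGroup r (sgAt hF e D.B.ee) := isPGroup_sgAt hF hqr _
    refine cohAt_of_involution hp (A := (sgAt hF e D.B.ee).map φ) (c := φ w) ?_ ?_ ⟨φ s, hcommT⟩ ?_
    · have := Fact.mk hr
      obtain ⟨m, hm⟩ := IsPGroup.iff_card.1 (hA.map φ)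
      rw [hm]
      intro h
      exact hpr ((Nat.prime_dvd_prime_iff_eq hp hr).1 (hp.dvd_of_dvd_pow h))
    · rw [← map_pow, D.w_sq, map_one]
    · have h := congrArg (Subgroup.map φ) D.sup_eq_top
      rwa [Subgroup.map_sup, MonoidHom.map_closure, Set.image_singleton, Subgroup.map_top_of_surjective _ hφs] at h

end Cfsg.Agent.H902.DG.CohU3
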