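import Cfsg.Agent.H902.DG.Crit
import Cfsg.Agent.H450.GenU.Main

/-!
# `Coh` for `PSU₃(q)`, `q ≥ 3` (helper902, S4180, task K4)
-/

set_option autoImplicit false

namespace Cfsg.Agent.H902.DG.CohU3

open Cfsg Cfsg.Agent.LieClassical.HermBasic Cfsg.Agent.LieClassical.HermSiegel
  Cfsg.Agent.LieClassical.HermGen Cfsg.Agent.LieClassical.SUBasic
  Cfsg.Agent.ClassicalGeometry.PSUAutCount Cfsg.Agent.ClassicalGeometry.UnitAutBasic Matrix
open Cfsg.Agent.H903.SylSemi Cfsg.Agent.H177.MeetPSU Cfsg.Agent.H137.Herm Cfsg.Agent.H450.GenU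
open Cfsg.Agent.H891.DG

universe u

section siegel

variable {F : Type*} [Field F] [Fintype F] {n q : ℕ}

/-- The group of Siegel elements at `u`. -/
def sgAt (hF : Fintype.card F = q ^ 2) (u : Fin n → F) (hu : hermForm n F q u u = 0) : Subgroup (SU n F q) where
  carrier := {g | ∃ (w : Fin n → F) (μ : F) (h : IsSiegel q u w μ), g = siegel hF u w μ h}
  mul_mem' := by
    rintro _ _ ⟨w, μ, h, rfl⟩ ⟨w', μ', h', rfl⟩
    exact ⟨_, _, _, siegel_mul hF h h'⟩
  one_mem' := ⟨0, 0, IsSiegel.zero hF hu, (siegel_zero hF _).symm⟩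
  inv_mem' := by
    rintro _ ⟨w, μ, h, rfl⟩
    exact ⟨_, _, _, siegel_inv hF h⟩

theorem pow_card (hF : Fintype.card F = q ^ 2) {u w : Fin n → F} {μ : F}
    (h : IsSiegel q u w μ) : (siegel hF u w μ h) ^ Fintype.card F = 1 := by
  have h2 := two_le hF
  have hcube : (siegelMat q u w μ - 1) * (siegelMat q u w μ - 1) * (siegelMat q u w μ - 1) = 0 := by
    apply Matrix.ext_of_mulVec_single
    intro i
    set e : Fin n → F := Pi.single i 1
    have key : ∀ v : Fin n → F, (siegelMat q u w μ - 1).mulVec v =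
        hermForm n F q v u • w + (μ * hermForm n F q v u - hermForm n F q v w) • u := by
      intro v
      rw [Matrix.sub_mulVec, siegelMat_mulVec, Matrix.one_mulVec]
      abel
    rw [Matrix.zero_mulVec, ← Matrix.mulVec_mulVec, ← Matrix.mulVec_mulVec, key e, key, key]
    simp only [herm_add_left, herm_smul_left, h.iso, h.orth, h.orth' hF, mul_zero, add_zero,
      zero_sub, zero_smul, zero_add, sub_self]
  obtain ⟨p, hp⟩ := CharP.exists F
  obtain ⟨k, hprime, hcard⟩ := FiniteField.card F p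
  have := Fact.mk hprime
  have h3 : 3 ≤ Fintype.card F := by rw [hF]; nlinarith
  apply mat_injective
  have hmat : ∀ m : ℕ, mat ((siegel hF u w μ h) ^ m) = siegelMat q u w μ ^ m := by
    intro m
    induction m with
    | zero => rw [pow_zero, pow_zero, mat_one]
    | succ m ih => rw [pow_succ, mat_mul, ih, pow_succ]; rfl
  rw [hmat, mat_one]
  rcases Nat.eq_zero_or_pos n with rfl | hn
  · exact Subsingleton.elim _ _
  have : Nonempty (Fin n) := ⟨⟨0, hn⟩⟩
  set M := siegelMat q u w μ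
  have hc : (M - 1) ^ Fintype.card F = M ^ Fintype.card F - 1 := by
    rw [hcard]
    have := sub_pow_char_pow_of_commute (R := Matrix (Fin n) (Fin n) F) (p := p) (n := (k : ℕ))
      (Commute.one_right M)
    rw [this, one_pow]
  have h0 : (M - 1) ^ Fintype.card F = 0 := by
    obtain ⟨m, hm⟩ := Nat.exists_eq_add_of_le h3
    rw [hm, pow_add, pow_succ, pow_two, hcube, zero_mul]
  rw [h0] at hc
  exact (sub_eq_zero.1 hc.symm)

theorem isPGroup_sgAt (hF : Fintype.card F = q ^ 2) {p f : ℕ} (hq : q = p ^ f)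
    {u : Fin n → F} (hu : hermForm n F q u u = 0) : IsPGroup p (sgAt hF u hu) := by
  rintro ⟨g, w, μ, h, rfl⟩
  refine ⟨f * 2, ?_⟩
  apply Subtype.ext
  change (siegel hF u w μ h) ^ p ^ (f * 2) = 1
  rw [pow_mul, ← hq, ← hF]
  exact pow_card hF h

end siegel

variable {F : Type} [Field F] [Fintype F] {q : ℕ}

/-- The elements `s` (a generator of the torus) and `w`. -/
structure Dat (hF : Fintype.card F = q ^ 2) (e f d : Fin 3 → F) (z : F) (s w : SU 3 F q) : Prop where
  B : Fr q e f d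
  z0 : z ≠ 0
  z1 : ∀ y : F, y ≠ 0 → ∃ k : ℕ, z ^ k = y
  z2 : ∀ k : ℕ, 0 < k → k < q ^ 2 - 1 → z ^ k ≠ 1
  se : act s e = z • e
  sf : act s f = (z ^ q)⁻¹ • f
  sd : act s d = (z ^ q * z⁻¹) • d
  we : act w e = f
  wf : act w f = e
  wd : act w d = (-1 : F) • d

theorem exists_dat (hF : Fintype.card F = q ^ 2) : ∃ (e f d : Fin 3 → F) (z : F) (s w : SU 3 F q),
    Dat hF e f d z s w := by
  obtain ⟨e, f, d, B⟩ := exists_fr (q := q) hF
  obtain ⟨z, hz0, hz1, hz2⟩ := exists_gen hF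
  have hzq : z ^ q ≠ 0 := pow_ne_zero _ hz0
  set g0 : F := z ^ q * z⁻¹ with hg0
  have hg00 : g0 ≠ 0 := mul_ne_zero hzq (inv_ne_zero hz0)
  have hg0n : g0 * g0 ^ q = 1 := by
    rw [hg0, mul_pow, pow_q_pow_q hF, inv_pow]
    field_simp
  obtain ⟨S, hS, hSe, hSf, hSd⟩ := exists_mono hF (1 : F ≃+* F) B (B.scale hF hz0 hg0n)
  have hSdt : Dt S 1 := by
    have h := B.dt_diag hS hSe hSf hSd
    have h2 : z * (z ^ q)⁻¹ * g0 = 1 := by
      rw [hg0]; field_simp
    rwa [h2] at h
  obtain ⟨s, rfl⟩ := exists_rho hS hSdt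
  have hb : (-1 : F) * (-1) ^ q = 1 := by
    rw [neg_pow_q hF, one_pow, neg_mul_neg, one_mul]
  obtain ⟨W, hW, hWe, hWf, hWd⟩ := exists_mono hF (1 : F ≃+* F) B (B.swap hb)
  have hWdt : Dt W 1 := by
    have h := B.dt_swap hW hWe hWf hWd
    rwa [neg_neg] at h
  obtain ⟨w, rfl⟩ := exists_rho hW hWdt
  exact ⟨e, f, d, z, s, w, B, hz0, hz1, hz2, hSe, hSf, hSd, hWe, hWf, hWd⟩

namespace Dat

variable {hF : Fintype.card F = q ^ 2} {e f d : Fin 3 → F} {z : F} {s w : SU 3 F q}

theorem ext (D : Dat hF e f d z s w) {x y : SU 3 F q} (he : act x e = act y e) (hf : act x f = act y f)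
    (hd : act x d = act y d) : x = y :=
  rho_injective (D.B.ext (SI.rho x) (SI.rho y) he hf hd)

theorem e0 (D : Dat hF e f d z s w) : e ≠ 0 := by
  rintro rfl
  have := D.B.ef
  rw [herm_zero_left] at this
  exact zero_ne_one this

theorem f0 (D : Dat hF e f d z s w) : f ≠ 0 := by
  rintro rfl
  have := D.B.fe
  rw [herm_zero_left] at this
  exact zero_ne_one this

theorem d0 (D : Dat hF e f d z s w) : d ≠ 0 := by
  rintro rfl
  have := D.B.dd
  rw [herm_zero_left] at this
  exact zero_ne_one this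

theorem pow_e (D : Dat hF e f d z s w) (k : ℕ) : act (s ^ k) e = z ^ k • e := by
  induction k with
  | zero => rw [pow_zero, pow_zero, act_one, one_smul]
  | succ k ih => rw [pow_succ, act_mul, D.se, act_smul, ih, smul_smul, pow_succ, mul_comm]

theorem pow_f (D : Dat hF e f d z s w) (k : ℕ) : act (s ^ k) f = ((z ^ q)⁻¹) ^ k • f := by
  induction k with
  | zero => rw [pow_zero, pow_zero, act_one, one_smul]
  | succ k ih => rw [pow_succ, act_mul, D.sf, act_smul, ih, smul_smul, pow_succ, mul_comm]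

theorem pow_d (D : Dat hF e f d z s w) (k : ℕ) : act (s ^ k) d = (z ^ q * z⁻¹) ^ k • d := by
  induction k with
  | zero => rw [pow_zero, pow_zero, act_one, one_smul]
  | succ k ih => rw [pow_succ, act_mul, D.sd, act_smul, ih, smul_smul, pow_succ, mul_comm]

theorem zpow_card (D : Dat hF e f d z s w) : z ^ (q ^ 2 - 1) = 1 := by
  have := FiniteField.pow_card_sub_one_eq_one z D.z0
  rwa [hF] at this

theorem s_pow (D : Dat hF e f d z s w) : s ^ (q ^ 2 - 1) = 1 := by
  have h := D.zpow_card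
  refine D.ext ?_ ?_ ?_
  · rw [D.pow_e, h, one_smul, act_one]
  · rw [D.pow_f, inv_pow, ← pow_mul, mul_comm q, pow_mul, h, one_pow, inv_one, one_smul, act_one]
  · rw [D.pow_d, mul_pow, ← pow_mul, mul_comm q, pow_mul, inv_pow, h, one_pow, inv_one, mul_one, one_smul, act_one]

theorem sws (D : Dat hF e f d z s w) : s * w * s ^ q = w := by
  have hz := D.z0
  have hzq : z ^ q ≠ 0 := pow_ne_zero _ hz
  have hqq := pow_q_pow_q hF z
  refine D.ext ?_ ?_ ?_
  · rw [act_mul, act_mul, D.pow_e, act_smul, D.we, act_smul, D.sf, smul_smul, mul_inv_cancel₀ hzq, one_smul]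
  · rw [act_mul, act_mul, D.pow_f, act_smul, D.wf, act_smul, D.se, smul_smul, inv_pow, hqq, inv_mul_cancel₀ hz,
      one_smul]
  · rw [act_mul, act_mul, D.pow_d, act_smul, D.wd, act_smul, act_smul, D.sd, smul_smul, smul_smul]
    congr 1
    rw [mul_pow, hqq, inv_pow]
    field_simp

theorem w_norm (D : Dat hF e f d z s w) : w⁻¹ * s * w = (s ^ q)⁻¹ := by
  have h := D.sws
  rw [eq_inv_iff_mul_eq_one]
  calc w⁻¹ * s * w * s ^ q = w⁻¹ * (s * w * s ^ q) := by group
    _ = 1 := by rw [h, inv_mul_cancel]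

theorem w_sq (D : Dat hF e f d z s w) : w ^ 2 = 1 := by
  rw [pow_two]
  refine D.ext ?_ ?_ ?_
  · rw [act_mul, D.we, D.wf, act_one]
  · rw [act_mul, D.wf, D.we, act_one]
  · rw [act_mul, D.wd, act_smul, D.wd, smul_smul, neg_one_mul, neg_neg, one_smul, act_one]

/-- `s` and `w` do not commute modulo scalars. -/
theorem not_comm (D : Dat hF e f d z s w) (hq : 3 ≤ q) : pr 3 F q (s * w) ≠ pr 3 F q (w * s) := by
  intro h
  obtain ⟨c, -, hc⟩ := exists_scalar_of_pr_eq hF le_rfl h
  have hz := D.z0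
  have hzq : z ^ q ≠ 0 := pow_ne_zero _ hz
  have h1 := hc d
  rw [act_mul, act_mul, D.sd, D.wd, act_smul, act_smul, D.wd, D.sd, smul_smul, smul_smul, smul_smul] at h1
  have h2 := smul_left_injective F D.d0 h1
  have hc1 : c = 1 := by
    have h3 : z ^ q * z⁻¹ * -1 ≠ 0 := mul_ne_zero (mul_ne_zero hzq (inv_ne_zero hz)) (neg_ne_zero.2 one_ne_zero)
    have h4 : c * (z ^ q * z⁻¹ * -1) = 1 * (z ^ q * z⁻¹ * -1) := by
      rw [one_mul]
      conv_rhs => rw [h2]
      ring
    exact mul_right_cancel₀ h3 h4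
  have h5 := hc e
  rw [act_mul, act_mul, D.se, D.we, act_smul, D.we, D.sf, hc1, one_smul] at h5
  have h6 := smul_left_injective F D.f0 h5
  have h7 : z ^ (q + 1) = 1 := by
    have h8 : z * z ^ q = 1 := (mul_eq_one_iff_eq_inv₀ hzq).2 h6
    rw [pow_succ', h8]
  refine D.z2 (q + 1) (by omega) ?_ h7
  have : 3 * q ≤ q ^ 2 := by rw [pow_two]; exact Nat.mul_le_mul_right q hq
  omega

/-- `SU₃(q)` is generated by the Siegel elements at `e` and `w`. -/
theorem sup_eq_top (D : Dat hF e f d z s w) : sgAt hF e D.B.ee ⊔ Subgroup.closure {w} = ⊤ := by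
  set K := sgAt hF e D.B.ee ⊔ Subgroup.closure {w} with hK
  have hw : w ∈ K := (le_sup_right : Subgroup.closure {w} ≤ K) (Subgroup.subset_closure rfl)
  have hfull : Cfsg.Agent.H137.Herm.Full hF K e := fun x ν h =>
    ⟨h, (le_sup_left : sgAt hF e D.B.ee ≤ K) ⟨x, ν, h, rfl⟩⟩
  have hwf : act w⁻¹ f = e := by rw [← D.we, act_inv_act]
  have hfull' : Cfsg.Agent.H137.Herm.Full hF K f := by
    intro x ν h
    have h1 : IsSiegel q e (act w⁻¹ x) ν := by
      have := h.map w⁻¹
      rwa [hwf] at this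
    exact ((hfull _ _ h1).conj hw).congr D.we (act_act_inv _ _) rfl
  exact eq_top_of_full le_rfl D.B.ee D.B.ff (by rw [D.B.ef]; exact one_ne_zero) hfull hfull'

/-- `s` and `t w` generate `SU₃(q)` modulo scalars. -/
theorem gen (D : Dat hF e f d z s w) (hq : 3 ≤ q) {μ : F} (k : IsSiegel q e d μ)
    (hc : Subgroup.center (PSU 3 F q) = ⊥) :
    Subgroup.closure ({pr 3 F q s, pr 3 F q (siegel hF e d μ k) * pr 3 F q w} : Set (PSU 3 F q)) = ⊤ := by
  set K := Subgroup.closure ({pr 3 F q s, pr 3 F q (siegel hF e d μ k) * pr 3 F q w} : Set (PSU 3 F q)) with hK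
  set M : Subgroup (MulAut (PSU 3 F q)) := K.map MulAut.conj with hM
  have hinj : Function.Injective (MulAut.conj : PSU 3 F q →* MulAut (PSU 3 F q)) := by
    rw [injective_iff_map_eq_one]
    intro x hx
    have h1 : x ∈ Subgroup.center (PSU 3 F q) := by
      rw [Subgroup.mem_center_iff]
      intro y
      have h2 : x * y * x⁻¹ = y := by
        have := DFunLike.congr_fun hx y
        rwa [MulAut.conj_apply] at this
      rw [mul_inv_eq_iff_eq_mul] at h2
      exact h2.symm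
    rwa [hc, Subgroup.mem_bot] at h1
  have hmem : ∀ x : SU 3 F q, x ∈ KK M ↔ pr 3 F q x ∈ K := by
    intro x
    rw [mem_KK', hM, Subgroup.mem_map_iff_mem hinj]
  have h1 : s ∈ KK M := (hmem _).2 (Subgroup.subset_closure (by simp))
  have h2 : siegel hF e d μ k * w ∈ KK M := (hmem _).2 (by rw [map_mul]; exact Subgroup.subset_closure (by simp))
  have h2' : rho 3 F q (siegel hF e d μ k) * rho 3 F q w ∈ LL M := by
    have := mem_KK.1 h2
    rwa [map_mul] at this
  obtain ⟨h3, -⟩ := gen_core (b := -1) hF hq D.B D.z0 D.z1 D.z2 (SI.rho s) D.se D.sf D.sd (SI.rho w) D.we D.wf D.wd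
    (neg_ne_zero.2 one_ne_zero) (Or.inl rfl) k (mem_KK.1 h1) h2'
  rw [eq_top_iff]
  intro y _
  obtain ⟨x, rfl⟩ := pr_surjective y
  rw [← hmem, h3]
  exact Subgroup.mem_top _

section siegelact

variable {μ : F}

theorem te (D : Dat hF e f d z s w) (k : IsSiegel q e d μ) : act (siegel hF e d μ k) e = e :=
  act_siegel_self hF k

theorem td (D : Dat hF e f d z s w) (k : IsSiegel q e d μ) : act (siegel hF e d μ k) d = d - e := by
  rw [act_siegel, D.B.de, D.B.dd, zero_smul, add_zero, mul_zero, zero_sub, neg_one_smul, sub_eq_add_neg]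

theorem tf (D : Dat hF e f d z s w) (k : IsSiegel q e d μ) : act (siegel hF e d μ k) f = f + d + μ • e := by
  rw [act_siegel, D.B.fe, D.B.fd, one_smul, mul_one, sub_zero]

end siegelact

end Dat

end Cfsg.Agent.H902.DG.CohU3
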