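import Cfsg.Agent.H891.DG.Defs
import Cfsg.Agent.H490.Der3

/-!
# Criteria for `CohAt p T`, rank one groups (helper902, S4180)

`T = ⟨s, t w⟩`, `s` of order prime to `p`, `w` normalises `⟨s⟩`.

* `cohAt_of_inv` : some power of `s` inverts `t`;
* `cohAt_two_of_sq` : `p = 2` and some power `r` of `s` commutes with `t²` while `(t⁻¹ r t r⁻¹)² ≠ 1`;
* `cohAt_of_involution` : `T = ⟨A, c⟩`, `A` a `p'`-group, `c` an involution.
-/

set_option autoImplicit false

namespace Cfsg.Agent.H902.DG

open Cfsg.Agent.H440.TwoGen Cfsg.Agent.H891.Gen Cfsg.Agent.H891.DG Cfsg.Agent.H490.Der Subgroup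

universe u

section

variable {T : Type u} [Group T] [IsSimpleGroup T] {V : Type u} [AddCommGroup V] [DistribMulAction T V]

/-- A nontrivial module of a simple group is faithful. -/
theorem faithful (h : ∃ (g : T) (v : V), g • v ≠ v) {g : T} (hg : ∀ v : V, g • v = v) : g = 1 := by
  let K : Subgroup T :=
    { carrier := {g | ∀ v : V, g • v = v}
      mul_mem' := fun {a b} ha hb v => by rw [mul_smul, hb, ha]
      one_mem' := fun v => one_smul _ v
      inv_mem' := fun {a} ha v => by
        show a⁻¹ • v = v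
        rw [inv_smul_eq_iff]
        exact (ha v).symm }
  have hK : K.Normal := ⟨fun n hn g v => by
    rw [mul_smul, mul_smul, hn, smul_inv_smul]⟩
  rcases hK.eq_bot_or_eq_top with h1 | h1
  · have : g ∈ K := hg
    rw [h1, mem_bot] at this
    exact this
  · obtain ⟨a, v, hav⟩ := h
    exact absurd ((h1 ▸ mem_top a : a ∈ K) v) hav

omit [IsSimpleGroup T] in
theorem der_zpow {z : T → V} (hz : IsDer z) {s : T} (h : z s = 0) {g : T} (hg : g ∈ zpowers s) : z g = 0 := by
  let K : Subgroup T :=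
    { carrier := {g | z g = 0}
      mul_mem' := fun {a b} ha hb => by
        show z (a * b) = 0
        rw [hz, ha, hb, smul_zero, add_zero]
      one_mem' := hz.one
      inv_mem' := fun {a} ha => by
        show z a⁻¹ = 0
        rw [hz.inv, ha, smul_zero, neg_zero] }
  exact (zpowers_le.2 (show s ∈ K from h)) hg

omit [IsSimpleGroup T] in
/-- What remains to be shown for a generating pair `s, t w`. -/
theorem small_of_pair' [Finite T] [Finite V] {p : ℕ} (hp : p.Prime) (hV : ∀ v : V, p • v = 0) {s t w : T} {m : ℕ}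
    (hs : s ^ m = 1) (hpm : ¬ p ∣ m) (hgen : closure ({s, t * w} : Set T) = ⊤) (hw : w⁻¹ * s * w ∈ zpowers s)
    (h : ∃ x : V, ¬ ∃ z : T → V, IsDer z ∧ (∀ g ∈ zpowers s, z g = 0) ∧ z t = x) : Small T V := by
  by_cases h0 : ∃ v : V, v ≠ 0 ∧ s • v = v
  · obtain ⟨v, hv, hsv⟩ := h0
    exact small_of_fixed hp hV hgen hs hpm hv hsv
  push Not at h0
  obtain ⟨x, hx⟩ := h
  refine small_of_pair hgen ⟨0, x, ?_⟩
  rintro ⟨z, hz, hzs, hzx⟩
  have hz0 : ∀ g ∈ zpowers s, z g = 0 := fun g hg => der_zpow hz hzs hg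
  refine hx ⟨z, hz, hz0, ?_⟩
  have hzw : z w = 0 := by
    by_contra hne
    apply h0 _ hne
    have h1 : s * w = w * (w⁻¹ * s * w) := by group
    have h2 := congrArg z h1
    rw [hz, hz, hz0 _ (mem_zpowers s), hz0 _ hw, zero_add, smul_zero, add_zero] at h2
    exact h2
  rw [← hzx, hz, hzw, smul_zero, add_zero]

end

section

variable {T : Type u} [Group T] [Finite T] [IsSimpleGroup T] {p : ℕ}

theorem cohAt_of_inv (hp : p.Prime) {s t w c : T} {m : ℕ}
    (hs : s ^ m = 1) (hpm : ¬ p ∣ m) (hgen : closure ({s, t * w} : Set T) = ⊤) (hw : w⁻¹ * s * w ∈ zpowers s)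
    (hc : c ∈ zpowers s) (hct : c * t * c⁻¹ = t⁻¹) (hne : ∃ g : T, g * (t * c) ≠ (t * c) * g) : CohAt p T := by
  intro V _ _ _ hV _ hnt
  refine small_of_pair' hp hV hs hpm hgen hw ?_
  by_contra hall
  push Not at hall
  have key : ∀ x : V, (t * c) • x = -x := by
    intro x
    obtain ⟨z, hz, hz0, hzt⟩ := hall x
    have h1 : z (c * t * c⁻¹) = c • x := by
      rw [hz, hz, hz0 _ hc, hz0 _ (inv_mem hc), smul_zero, add_zero, zero_add, hzt]
    rw [hct, hz.inv, hzt] at h1
    rw [mul_smul, ← h1, smul_neg, smul_inv_smul]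
  obtain ⟨g, hg⟩ := hne
  apply hg
  have h2 : ∀ x : V, (g * (t * c)) • x = ((t * c) * g) • x := by
    intro x
    rw [mul_smul, key, mul_smul (t * c) g, key, smul_neg]
  have h3 : ((t * c) * g)⁻¹ * (g * (t * c)) = 1 := by
    apply faithful hnt
    intro v
    rw [mul_smul, h2, inv_smul_smul]
  exact (inv_mul_eq_one.1 h3).symm

theorem cohAt_two_of_sq {s t w r : T} {m : ℕ}
    (hs : s ^ m = 1) (hpm : ¬ 2 ∣ m) (hgen : closure ({s, t * w} : Set T) = ⊤) (hw : w⁻¹ * s * w ∈ zpowers s)
    (hr : r ∈ zpowers s) (hrt : r * (t * t) = t * t * r) (hne : (t⁻¹ * (r * t * r⁻¹)) ^ 2 ≠ 1) : CohAt 2 T := by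
  intro V _ _ _ hV _ hnt
  refine small_of_pair' Nat.prime_two hV hs hpm hgen hw ?_
  by_contra hall
  push Not at hall
  have h2 : ∀ v : V, v + v = 0 := fun v => by rw [← two_nsmul]; exact hV v
  have hneg : ∀ v : V, -v = v := fun v => neg_eq_of_add_eq_zero_left (h2 v)
  have key : ∀ x : V, r • (x + t • x) = x + t • x := by
    intro x
    obtain ⟨z, hz, hz0, hzt⟩ := hall x
    have h3 : z (t * t) = x + t • x := by rw [hz, hzt]
    have h1 := congrArg z hrt
    rw [hz, hz _ r, hz0 _ hr, h3, zero_add, smul_zero, add_zero] at h1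
    exact h1
  have key' : ∀ x : V, r⁻¹ • (x + t • x) = x + t • x := by
    intro x
    rw [inv_smul_eq_iff, key]
  apply hne
  apply faithful hnt
  intro x
  -- `n x = x + t⁻¹ (1 + t) (1 + r⁻¹) x`
  have hn : ∀ x : V, (t⁻¹ * (r * t * r⁻¹)) • x = x + t⁻¹ • ((x + r⁻¹ • x) + t • (x + r⁻¹ • x)) := by
    intro x
    have e1 : (r * t * r⁻¹) • x = x + ((r⁻¹ • x) + t • (r⁻¹ • x)) := by
      have := key (r⁻¹ • x)
      rw [smul_add, smul_inv_smul] at this
      rw [← this, mul_smul, mul_smul, ← add_assoc, h2, zero_add]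
    rw [mul_smul, e1, inv_smul_eq_iff, smul_add, smul_inv_smul, smul_add]
    have e3 : x + (r⁻¹ • x + t • r⁻¹ • x) = (t • x + t • x) + (x + (r⁻¹ • x + t • r⁻¹ • x)) := by
      rw [h2, zero_add]
    rw [e3]
    abel
  set n := t⁻¹ * (r * t * r⁻¹) with hndef
  have h4 : ∀ x : V, t⁻¹ • (x + t • x) = x + t⁻¹ • x := by
    intro x
    rw [smul_add, inv_smul_smul, add_comm]
  have h5 : ∀ y : V, (t⁻¹ • (y + t • y)) + r⁻¹ • (t⁻¹ • (y + t • y)) = 0 := by
    intro y
    have e : t⁻¹ • (y + t • y) = (t⁻¹ • y) + t • (t⁻¹ • y) := by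
      rw [h4, smul_inv_smul, add_comm]
    rw [e, key', h2]
  have h6 : ∀ y : V, n • (t⁻¹ • (y + t • y)) = t⁻¹ • (y + t • y) := by
    intro y
    rw [hn, h5, smul_zero, add_zero, smul_zero, add_zero]
  rw [pow_two, mul_smul]
  conv_lhs => rw [hn x, smul_add, h6, hn x]
  rw [add_assoc, h2, add_zero]

theorem cohAt_of_involution (hp : p.Prime) {A : Subgroup T} {c : T}
    (hA : ¬ p ∣ Nat.card A) (hc : c ^ 2 = 1) (hne : ∃ g : T, g * c ≠ c * g) (h : A ⊔ closure {c} = ⊤) :
    CohAt p T := by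
  intro V _ _ _ hV _ hnt
  classical
  -- `c` does not act as `-1`
  have hc1 : ∃ v : V, c • v ≠ -v := by
    by_contra hall
    push Not at hall
    obtain ⟨g, hg⟩ := hne
    apply hg
    have h2 : ∀ x : V, (g * c) • x = (c * g) • x := by
      intro x
      rw [mul_smul, hall, mul_smul, hall, smul_neg]
    have h3 : (c * g)⁻¹ * (g * c) = 1 := by
      apply faithful hnt
      intro v
      rw [mul_smul, h2, inv_smul_smul]
    exact (inv_mul_eq_one.1 h3).symm
  let K : AddSubgroup V :=
    { carrier := {v | c • v = -v}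
      add_mem' := fun {a b} ha hb => by
        show c • (a + b) = -(a + b)
        rw [smul_add, ha, hb, neg_add]
      zero_mem' := by
        show c • (0 : V) = -0
        rw [smul_zero, neg_zero]
      neg_mem' := fun {a} ha => by
        show c • (-a) = - -a
        rw [smul_neg, ha] }
  have hK : Nat.card K < Nat.card V := by
    obtain ⟨v, hv⟩ := hc1
    have : Fintype V := Fintype.ofFinite V
    rw [Nat.card_eq_fintype_card, Nat.card_eq_fintype_card]
    exact Fintype.card_subtype_lt (x := v) hv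
  have hin : ∀ z : {z : T → V // ∀ g h : T, z (g * h) = z g + g • z h}, ∃ u : V, ∀ g ∈ A, z.1 g = u - g • u := by
    intro z
    obtain ⟨u, hu⟩ := exists_inner (H := A) hp hV hA (z := fun g => z.1 g) (fun g h => z.2 g h)
    exact ⟨u, fun g hg => hu ⟨g, hg⟩⟩
  choose u hu using hin
  have hcc : c * c = 1 := by rw [← pow_two]; exact hc
  let F : {z : T → V // ∀ g h : T, z (g * h) = z g + g • z h} → V × K := fun z =>
    (u z, ⟨z.1 c - (u z - c • u z), by
      have hd : IsDer (fun g => z.1 g - (u z - g • u z)) := IsDer.sub z.2 (isDer_inner (u z))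
      have h1 : (0 : V) = (z.1 c - (u z - c • u z)) + c • (z.1 c - (u z - c • u z)) := by
        have h0 := hd c c
        rw [hcc] at h0
        exact hd.one.symm.trans h0
      have h2 : c • (z.1 c - (u z - c • u z)) = -(z.1 c - (u z - c • u z)) :=
        eq_neg_of_add_eq_zero_right h1.symm
      exact h2⟩)
  have hF : Function.Injective F := by
    intro z z' hzz
    have h1 : u z = u z' := congrArg Prod.fst hzz
    have h2 : z.1 c - (u z - c • u z) = z'.1 c - (u z' - c • u z') :=
      congrArg (fun a => ((a.2 : K) : V)) hzz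
    apply Subtype.ext
    have hcl : closure ((A : Set T) ∪ {c}) = ⊤ := by
      rw [Subgroup.closure_union, Subgroup.closure_eq]
      exact h
    refine IsDer.ext hcl z.2 z'.2 ?_
    rintro g (hg | hg)
    · rw [hu z g hg, hu z' g hg, h1]
    · rw [Set.mem_singleton_iff] at hg
      subst hg
      rw [h1] at h2
      exact sub_left_injective h2
  have h3 := Nat.card_le_card_of_injective F hF
  rw [Nat.card_prod] at h3
  unfold H891.Gen.Small
  have h4 : 0 < Nat.card V := Nat.card_pos
  calc _ ≤ Nat.card V * Nat.card K := h3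
    _ < Nat.card V * Nat.card V := Nat.mul_lt_mul_of_pos_left hK h4
    _ = Nat.card V ^ 2 := (pow_two _).symm

end

end Cfsg.Agent.H902.DG
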